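import Groth.Agent.ProEtLib.EpsColim
import Mathlib.AlgebraicGeometry.Morphisms.Flat

/-!
# The vanishing locus of a section of a pulled back sheaf
-/

set_option autoImplicit false
set_option backward.isDefEq.respectTransparency.types false
set_option linter.style.haveILetI false

noncomputable section

universe u

open CategoryTheory CategoryTheory.Limits AlgebraicGeometry Opposite MorphismProperty

namespace Groth.Agent.EpsLim13

open ProEtLib SitePullUnit

variable {X : Scheme.{u}}

local notation "G" => ProEtS.eps X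
local notation "K" => Scheme.ProEt.topology X

/-- fibre products in the small pro-étale site -/
theorem exists_point {Q T T' : X.ProEt} (g : T ⟶ Q) (h : T' ⟶ Q) (v : T.left) (w : T'.left)
    (e : g.left.base v = h.left.base w) :
    ∃ (P : X.ProEt) (p : P ⟶ T) (q : P ⟶ T') (z : P.left),
      p ≫ g = q ≫ h ∧ p.left.base z = v ∧ q.left.base z = w := by
  haveI : WeaklyEtale h.left := weaklyEtale_left h
  haveI : WeaklyEtale (pullback.fst g.left h.left) :=
    MorphismProperty.pullback_fst (P := @WeaklyEtale) g.left h.left ‹_›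
  haveI : WeaklyEtale T.hom := T.prop
  let P : X.ProEt := Scheme.ProEt.mk (pullback.fst g.left h.left ≫ T.hom)
  let p : P ⟶ T := MorphismProperty.Over.homMk (pullback.fst g.left h.left)
  let q : P ⟶ T' := MorphismProperty.Over.homMk (pullback.snd g.left h.left) (by
    change _ = pullback.fst _ _ ≫ T.hom
    rw [← MorphismProperty.Over.w g, ← MorphismProperty.Over.w h, pullback.condition_assoc]
    rfl)
  obtain ⟨z, hz, hz'⟩ := Scheme.Pullback.exists_preimage_pullback (f := g.left) (g := h.left) v w e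
  exact ⟨P, p, q, z, MorphismProperty.Over.Hom.ext pullback.condition, hz, hz'⟩

variable [ProEtS.EpsCont X] (F : EtCoh.Ab X)

/-- the points near which a section vanishes -/
def vanSet {Q : X.ProEt} (s : (pulled G K F).obj (op Q)) : Set Q.left :=
  {z | ∃ (T : X.ProEt) (g : T ⟶ Q) (v : T.left), g.left.base v = z ∧ (pulled G K F).map g.op s = 0}

variable {F}

theorem map_map {Q T T' : X.ProEt} (g : T ⟶ Q) (p : T' ⟶ T) (s : (pulled G K F).obj (op Q)) :
    (pulled G K F).map p.op ((pulled G K F).map g.op s) = (pulled G K F).map (p ≫ g).op s := by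
  rw [← ConcreteCategory.comp_apply, ← Functor.map_comp, ← op_comp]

/-- on germs the vanishing locus is the agreement locus -/
theorem mem_vanSet_iff {Q T : X.ProEt} (g : T ⟶ Q) (s : (pulled G K F).obj (op Q)) {U : X.Etale}
    (b : T ⟶ (ProEtS.eps X).obj U) (x : F.obj.obj (op U)) (hs : sGerm G K F b x = (pulled G K F).map g.op s)
    (w : T.left) : g.left.base w ∈ vanSet F s ↔ b.left.base w ∈ agree F x 0 := by
  haveI := repFlat_eps (X := X)
  constructor
  · rintro ⟨T', g', v, hv, h0⟩
    obtain ⟨P, p, q, z, hpq, hz, hz'⟩ := exists_point g g' w v hv.symm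
    have h1 : sGerm G K F (p ≫ b) x = sGerm G K F (p ≫ b) 0 := by
      rw [← map_sGerm, hs, map_map, hpq, ← map_map, h0, map_zero, sGerm_zero]
    have h2 := sGerm_agree F (p ≫ b) x 0 h1 z
    rw [← hz]
    exact h2
  · intro hw
    let O : T.left.Opens := b.left ⁻¹ᵁ (agree F x 0)
    refine ⟨opObj T O, opHom T O ≫ g, ⟨w, hw⟩, rfl, ?_⟩
    rw [← map_map, ← hs, map_sGerm, sGerm_eq_of_agree F _ x 0 fun z => ?_, sGerm_zero]
    exact z.2

/-- sections vanish on objects mapping into the vanishing locus -/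
theorem map_eq_zero {Q T : X.ProEt} (g : T ⟶ Q) (s : (pulled G K F).obj (op Q))
    (h : ∀ v, g.left.base v ∈ vanSet F s) : (pulled G K F).map g.op s = 0 := by
  haveI := repFlat_eps (X := X)
  obtain ⟨R, hR, hR'⟩ := exists_cover_sGerm G K F ((pulled G K F).map g.op s)
  refine ((presheafToSheaf K AddCommGrpCat.{u + 1}).obj (lanP G F)).2.isSeparated T R hR _ 0 fun d f hf => ?_
  rw [map_zero]
  obtain ⟨U, b, x, hx⟩ := hR' f hf
  have hx' : sGerm G K F b x = (pulled G K F).map (f ≫ g).op s := hx.trans (map_map g f s)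
  rw [← hx, sGerm_eq_of_agree F b x 0 fun w => (mem_vanSet_iff (f ≫ g) s b x hx' w).1 (h (f.left.base w)),
    sGerm_zero]

theorem eq_zero_of_vanSet {Q : X.ProEt} (s : (pulled G K F).obj (op Q)) (h : ∀ v, v ∈ vanSet F s) : s = 0 := by
  simpa using map_eq_zero (𝟙 Q) s h

theorem vanSet_map {Q T : X.ProEt} (g : T ⟶ Q) (s : (pulled G K F).obj (op Q)) (w : T.left) :
    w ∈ vanSet F ((pulled G K F).map g.op s) ↔ g.left.base w ∈ vanSet F s := by
  constructor
  · rintro ⟨T', g', v, rfl, h0⟩
    exact ⟨T', g' ≫ g, v, rfl, (map_map g g' s).symm.trans h0⟩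
  · rintro ⟨T', g', v, hv, h0⟩
    obtain ⟨P, p, q, z, hpq, hz, hz'⟩ := exists_point g g' w v hv.symm
    refine ⟨P, p, z, hz, ?_⟩
    rw [map_map, hpq, ← map_map, h0, map_zero]

theorem isOpen_vanSet_of_affine {Q : X.ProEt} [IsAffine Q.left] (s : (pulled G K F).obj (op Q)) :
    IsOpen (vanSet F s) := by
  haveI := repFlat_eps (X := X)
  obtain ⟨R, hR, hR'⟩ := exists_cover_sGerm G K F s
  obtain ⟨ι, _, P, g, hg, hcp, hs, -⟩ := exists_finite_compact_cover hR
  choose U b x hx using fun k => hR' (g k) (hg k)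
  let q : (∐ fun k => (P k).left) ⟶ Q.left := Sigma.desc fun k => (g k).left
  haveI : Flat q := IsZariskiLocalAtSource.sigmaDesc fun k => by
    haveI := weaklyEtale_left (g k)
    exact WeaklyEtale.flat
  haveI : ∀ k, CompactSpace (P k).left := hcp
  haveI : QuasiCompact q := by
    haveI : Fintype ι := Fintype.ofFinite ι
    haveI : CompactSpace ↥(∐ fun k => (P k).left) := by
      haveI : CompactSpace (Σ k, (P k).left) := inferInstance
      exact (sigmaMk fun k => (P k).left).compactSpace
    exact HasAffineProperty.iff_of_isAffine (P := @QuasiCompact).2 inferInstance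
  haveI : AlgebraicGeometry.Surjective q := ⟨fun z => by
    obtain ⟨k, w, hw⟩ := hs z
    refine ⟨(Sigma.ι (fun k => (P k).left) k).base w, ?_⟩
    rw [← hw]
    exact congrArg (fun m : (P k).left ⟶ Q.left => m.base w)
      (show Sigma.ι (fun k => (P k).left) k ≫ q = (g k).left from Sigma.ι_desc _ k)⟩
  rw [← (Flat.isQuotientMap_of_surjective q).isOpen_preimage]
  rw [isOpen_iff_forall_mem_open]
  intro z hz
  obtain ⟨⟨k, w⟩, rfl⟩ := (sigmaMk fun k => (P k).left).surjective z
  rw [sigmaMk_mk] at hz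
  rw [sigmaMk_mk]
  have e : ∀ w', q.base ((Sigma.ι (fun k => (P k).left) k).base w') = (g k).left.base w' := fun w' =>
    congrArg (fun m : (P k).left ⟶ Q.left => m.base w')
      (show Sigma.ι (fun k => (P k).left) k ≫ q = (g k).left from Sigma.ι_desc _ k)
  refine ⟨(Sigma.ι (fun k => (P k).left) k).base '' ((b k).left ⁻¹ᵁ agree F (x k) 0 : (P k).left.Opens).1,
    ?_, (Sigma.ι (fun k => (P k).left) k).isOpenEmbedding.isOpenMap _ ((b k).left ⁻¹ᵁ agree F (x k) 0).2, w, ?_, rfl⟩
  · rintro _ ⟨w', hw', rfl⟩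
    show q.base _ ∈ vanSet F s
    rw [e]
    exact (mem_vanSet_iff (g k) s (b k) (x k) (hx k) w').2 hw'
  · refine (mem_vanSet_iff (g k) s (b k) (x k) (hx k) w).1 ?_
    rw [← e]
    exact hz

theorem isOpen_vanSet {Q : X.ProEt} (s : (pulled G K F).obj (op Q)) : IsOpen (vanSet F s) := by
  rw [isOpen_iff_forall_mem_open]
  intro z hz
  obtain ⟨O, hO, hzO, -⟩ := exists_isAffineOpen_mem_and_subset (U := (⊤ : Q.left.Opens)) (x := z) trivial
  haveI : IsAffine (opObj Q O).left := hO
  have hv := isOpen_vanSet_of_affine ((pulled G K F).map (opHom Q O).op s)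
  refine ⟨O.ι.base '' vanSet F ((pulled G K F).map (opHom Q O).op s), ?_,
    O.ι.isOpenEmbedding.isOpenMap _ hv, ⟨z, hzO⟩, (vanSet_map (opHom Q O) s _).2 hz, rfl⟩
  rintro _ ⟨w, hw, rfl⟩
  exact (vanSet_map (opHom Q O) s w).1 hw

variable (F) in
/-- the vanishing locus as an open -/
def van {Q : X.ProEt} (s : (pulled G K F).obj (op Q)) : Q.left.Opens := ⟨vanSet F s, isOpen_vanSet s⟩

end Groth.Agent.EpsLim13
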