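import Groth.Agent.EpsLim13.System
import Groth.Agent.EpsLim13.Van
import Mathlib.Algebra.Category.Grp.FilteredColimits

/-!
# Continuity of pulled back sheaves along limits in the pro-étale site
-/

set_option autoImplicit false
set_option backward.isDefEq.respectTransparency false
set_option backward.isDefEq.respectTransparency.types false
set_option linter.style.haveILetI false

noncomputable section

universe u

open CategoryTheory CategoryTheory.Limits AlgebraicGeometry Opposite MorphismProperty

namespace Groth.Agent.EpsLim13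

open ProEtLib SitePullUnit

variable {X : Scheme.{u}} [ProEtS.EpsCont X] {I : Type u} [SmallCategory I] [IsCofiltered I]
  {D : I ⥤ X.ProEt} {c : Cone D}

local notation "G" => ProEtS.eps X
local notation "K" => Scheme.ProEt.topology X

variable (F : EtCoh.Ab X)

/-- the underlying schemes -/
abbrev sysOf (D : I ⥤ X.ProEt) : I ⥤ Scheme.{u} := D ⋙ Scheme.ProEt.forget X ⋙ Over.forget X

/-- local approximations of a section over the limit by sections over etale schemes at stage `j` -/
structure Approx (t : (pulled (ProEtS.eps X) (Scheme.ProEt.topology X) F).obj (op c.pt)) (j : I) where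
  ι : Type u
  fin : Finite ι
  T : ι → X.ProEt
  τ : ∀ k, T k ⟶ D.obj j
  affine : ∀ k, IsAffine (T k).left
  etale : ∀ k, Etale (τ k).left
  x : ∀ k, (pulled (ProEtS.eps X) (Scheme.ProEt.topology X) F).obj (op (T k))
  compat : ∀ k (T' : X.ProEt) (a : T' ⟶ T k) (e : T' ⟶ c.pt), a ≫ τ k = e ≫ c.π.app j →
    (pulled (ProEtS.eps X) (Scheme.ProEt.topology X) F).map a.op (x k) = (pulled (ProEtS.eps X) (Scheme.ProEt.topology X) F).map e.op t

variable {F} {t : (pulled (ProEtS.eps X) (Scheme.ProEt.topology X) F).obj (op c.pt)}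

/-- the points over which approximations exist -/
def Approx.image {j : I} (A : Approx F t j) : Set (D.obj j).left :=
  ⋃ k, Set.range (A.τ k).left.base

theorem Approx.isOpen_image {j : I} (A : Approx F t j) : IsOpen A.image :=
  isOpen_iUnion fun k => by
    haveI := A.etale k
    exact (A.τ k).left.isOpenMap.isOpen_range

theorem exists_bc {T Q Q' : X.ProEt} (τ : T ⟶ Q) (g : Q' ⟶ Q) [Etale τ.left] :
    ∃ (T' : X.ProEt) (p : T' ⟶ T) (τ' : T' ⟶ Q'), Etale τ'.left ∧ p ≫ τ = τ' ≫ g ∧
      CategoryTheory.IsPullback p.left τ'.left τ.left g.left := by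
  haveI : Etale (pullback.snd τ.left g.left) := MorphismProperty.pullback_snd τ.left g.left ‹_›
  haveI : WeaklyEtale Q'.hom := Q'.prop
  let T' : X.ProEt := Scheme.ProEt.mk (pullback.snd τ.left g.left ≫ Q'.hom)
  let τ' : T' ⟶ Q' := MorphismProperty.Over.homMk (pullback.snd τ.left g.left)
  let p : T' ⟶ T := MorphismProperty.Over.homMk (pullback.fst τ.left g.left) (by
    change _ = pullback.snd _ _ ≫ Q'.hom
    rw [← MorphismProperty.Over.w τ, ← MorphismProperty.Over.w g, ← Category.assoc, pullback.condition,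
      Category.assoc])
  exact ⟨T', p, τ', ‹_›, MorphismProperty.Over.Hom.ext pullback.condition, IsPullback.of_hasPullback _ _⟩

variable [∀ (i j : I) (a : i ⟶ j), IsAffineHom (D.map a).left]

/-- approximations move to later stages -/
theorem Approx.refine' {j : I} (A : Approx F t j) {m : I} (g : m ⟶ j) :
    ∃ (B : Approx F t m) (e : B.ι → A.ι) (p : ∀ k, B.T k ⟶ A.T (e k)),
      (∀ k, p k ≫ A.τ (e k) = B.τ k ≫ D.map g) ∧ (∀ k, B.x k = (pulled G K F).map (p k).op (A.x (e k))) ∧
      ∀ d : (D.obj m).left, (D.map g).left.base d ∈ A.image → d ∈ B.image := by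
  haveI := A.etale
  choose T p τ hτ hw hp using fun k => exists_bc (A.τ k) (D.map g)
  haveI : ∀ k, IsAffine (T k).left := fun k => by
    haveI := A.affine k
    haveI : IsAffineHom (p k).left := MorphismProperty.of_isPullback (P := @IsAffineHom) (hp k).flip inferInstance
    exact isAffine_of_isAffineHom (p k).left
  refine ⟨⟨A.ι, A.fin, T, τ, ‹_›, hτ, fun k => (pulled G K F).map (p k).op (A.x k), fun k T' a e hae => ?_⟩,
    id, p, hw, fun _ => rfl, fun d hd => ?_⟩
  · rw [map_map]
    refine A.compat k T' _ e ?_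
    rw [Category.assoc, hw, ← Category.assoc, hae, Category.assoc, c.w]
  · obtain ⟨k, w, hw'⟩ := Set.mem_iUnion.1 hd
    obtain ⟨P, q, q', z, hq, hz, hz'⟩ := exists_point (A.τ k) (D.map g) w d hw'
    refine Set.mem_iUnion.2 ⟨k, ((hp k).lift q.left q'.left (congrArg (fun m => m.left) hq)).base z, ?_⟩
    refine (Scheme.Hom.comp_apply _ _ z).symm.trans ?_
    rw [IsPullback.lift_snd]
    exact hz'

variable [∀ i, CompactSpace ↥(D.obj i).left] (hc : IsLimit ((Scheme.ProEt.forget X ⋙ Over.forget X).mapCone c))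

include hc

/-- a condition at the limit holds at a later stage -/
theorem exists_stage_mem {j : I} {O : X.ProEt} [CompactSpace O.left] (h : O ⟶ D.obj j) (V : O.left.Opens)
    (hV : ∀ (y : c.pt.left) (w : O.left), h.left.base w = (c.π.app j).left.base y → w ∈ V) :
    ∃ (m : I) (g : m ⟶ j), ∀ (d : (D.obj m).left) (w : O.left), h.left.base w = (D.map g).left.base d → w ∈ V := by
  haveI : ∀ {a b : I} (f : a ⟶ b), IsAffineHom ((sysOf D).map f) := fun f =>
    inferInstanceAs (IsAffineHom (D.map f).left)
  haveI : ∀ a, CompactSpace ((sysOf D).obj a) := fun a => inferInstanceAs (CompactSpace (D.obj a).left)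
  exact exists_forall_mem (D := sysOf D) ((Scheme.ProEt.forget X ⋙ Over.forget X).mapCone c) hc (O := O.left)
    h.left V hV

/-- sections vanishing over the limit vanish at a later stage -/
theorem exists_map_eq_zero {i : I} (s : (pulled G K F).obj (op (D.obj i)))
    (hs : (pulled G K F).map (c.π.app i).op s = 0) :
    ∃ (m : I) (g : m ⟶ i), (pulled G K F).map (D.map g).op s = 0 := by
  obtain ⟨m, g, hg⟩ := exists_stage_mem hc (𝟙 (D.obj i)) (van F s) fun y w hw =>
    ⟨c.pt, c.π.app i, y, hw.symm, hs⟩
  exact ⟨m, g, map_eq_zero _ s fun d => hg d ((D.map g).left.base d) rfl⟩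

/-- every point of the limit lies over an approximation at some stage -/
theorem exists_approx_at (t : (pulled G K F).obj (op c.pt)) (y : c.pt.left) :
    ∃ (j : I) (A : Approx F t j), (c.π.app j).left.base y ∈ A.image := by
  haveI := repFlat_eps (X := X)
  obtain ⟨R, hR, hR'⟩ := exists_cover_sGerm G K F t
  obtain ⟨d, f, v, hf, hv⟩ := exists_hit hR y
  obtain ⟨U, b, x, hx⟩ := hR' f hf
  obtain ⟨i₀⟩ := IsCofiltered.nonempty (C := I)
  haveI : Etale U.hom := U.prop
  let tX : sysOf D ⟶ (Functor.const I).obj X :=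
    { app := fun i => (D.obj i).hom
      naturality := fun i j a => (MorphismProperty.Over.w (D.map a)).trans (Category.comp_id _).symm }
  let c₀ := (Scheme.ProEt.forget X ⋙ Over.forget X).mapCone c
  let E := Over.forget i₀ ⋙ bcSys tX U.hom
  let cE := bcCone tX U.hom c₀ i₀
  haveI : ∀ {a b : I} (f : a ⟶ b), IsAffineHom ((sysOf D).map f) := fun f =>
    inferInstanceAs (IsAffineHom (D.map f).left)
  haveI : ∀ {a b : Over i₀} (f : a ⟶ b), IsAffineHom (E.map f) := fun f => bcSys_isAffineHom tX U.hom f.left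
  have hbase : c₀.π.app i₀ ≫ tX.app i₀ = c.pt.hom := MorphismProperty.Over.w (c.π.app i₀)
  haveI : Etale (pullback.fst (c₀.π.app i₀ ≫ tX.app i₀) U.hom) := MorphismProperty.pullback_fst _ _ ‹_›
  haveI : WeaklyEtale c.pt.hom := c.pt.prop
  let EY : X.ProEt := Scheme.ProEt.mk (pullback.fst (c₀.π.app i₀ ≫ tX.app i₀) U.hom ≫ c.pt.hom)
  let r : EY ⟶ c.pt := MorphismProperty.Over.homMk (pullback.fst _ _)
  let u : EY ⟶ (ProEtS.eps X).obj U := MorphismProperty.Over.homMk (pullback.snd _ _) (by
    change pullback.snd _ _ ≫ U.hom = pullback.fst _ _ ≫ c.pt.hom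
    rw [← pullback.condition, ← hbase])
  let q : d ⟶ EY := MorphismProperty.Over.homMk (pullback.lift f.left b.left (by
    exact ((congrArg (f.left ≫ ·) hbase).trans (MorphismProperty.Over.w f)).trans (MorphismProperty.Over.w b).symm)) (by
    change pullback.lift _ _ _ ≫ pullback.fst _ _ ≫ c.pt.hom = _
    rw [pullback.lift_fst_assoc]
    exact MorphismProperty.Over.w f)
  have hqr : q ≫ r = f := MorphismProperty.Over.Hom.ext (pullback.lift_fst _ _ _)
  have hqu : q ≫ u = b := MorphismProperty.Over.Hom.ext (pullback.lift_snd _ _ _)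
  let δ := sGerm G K F u x - (pulled G K F).map r.op t
  have hz : q.left.base v ∈ van F δ := ⟨d, q, v, rfl, by
    rw [map_sub, map_sGerm, hqu, map_map, hqr, hx, sub_self]⟩
  obtain ⟨_, ⟨_, ⟨k, A, hA, rfl⟩, rfl⟩, hzA, hle⟩ := (isBasis_preimage_isAffineOpen E cE
    (bcIsLimit tX U.hom c₀ hc i₀)).exists_subset_of_mem_open hz (van F δ).2
  haveI : Etale (pullback.fst (tX.app k.left) U.hom) := MorphismProperty.pullback_fst _ _ ‹_›
  haveI : WeaklyEtale (D.obj k.left).hom := (D.obj k.left).prop
  let T : X.ProEt := Scheme.ProEt.mk ((A.ι ≫ pullback.fst (tX.app k.left) U.hom) ≫ (D.obj k.left).hom)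
  let τ : T ⟶ D.obj k.left := MorphismProperty.Over.homMk (A.ι ≫ pullback.fst (tX.app k.left) U.hom)
  let uT : T ⟶ (ProEtS.eps X).obj U := MorphismProperty.Over.homMk (A.ι ≫ pullback.snd (tX.app k.left) U.hom) (by
    change (A.ι ≫ pullback.snd _ _) ≫ U.hom = (A.ι ≫ pullback.fst _ _) ≫ (D.obj k.left).hom
    rw [Category.assoc, ← pullback.condition, Category.assoc]
    rfl)
  let Ap : Approx F t k.left :=
    { ι := PUnit
      fin := inferInstance
      T := fun _ => T
      τ := fun _ => τ
      affine := fun _ => hA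
      etale := fun _ => inferInstanceAs (Etale (A.ι ≫ pullback.fst (tX.app k.left) U.hom))
      x := fun _ => sGerm G K F uT x
      compat := fun _ T' a e hae => by
        have hae' : a.left ≫ A.ι ≫ pullback.fst (tX.app k.left) U.hom = e.left ≫ (c.π.app k.left).left :=
          congrArg (fun m => m.left) hae
        let l : T' ⟶ EY := MorphismProperty.Over.homMk
          (pullback.lift e.left (a ≫ uT).left (by
            exact ((congrArg (e.left ≫ ·) hbase).trans (MorphismProperty.Over.w e)).trans
              (MorphismProperty.Over.w (a ≫ uT)).symm)) (by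
            change pullback.lift _ _ _ ≫ pullback.fst _ _ ≫ c.pt.hom = _
            rw [pullback.lift_fst_assoc]
            exact MorphismProperty.Over.w e)
        have hlr : l ≫ r = e := MorphismProperty.Over.Hom.ext (pullback.lift_fst _ _ _)
        have hlu : l ≫ u = a ≫ uT := MorphismProperty.Over.Hom.ext (pullback.lift_snd _ _ _)
        have hlπ : l.left ≫ cE.π.app k = a.left ≫ A.ι := by
          refine pullback.hom_ext ?_ ?_
          · rw [Category.assoc]
            refine (congrArg (l.left ≫ ·) (pullback.lift_fst _ _ _)).trans ?_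
            refine ((Category.assoc _ _ _).symm.trans (congrArg (· ≫ c₀.π.app k.left)
              (congrArg (fun m => m.left) hlr))).trans ?_
            exact hae'.symm.trans (Category.assoc _ _ _).symm
          · rw [Category.assoc]
            refine (congrArg (l.left ≫ ·) ((pullback.lift_snd _ _ _).trans (Category.comp_id _))).trans ?_
            exact (congrArg (fun m => m.left) hlu).trans (Category.assoc _ _ _).symm
        have h0 : (pulled G K F).map l.op δ = 0 := map_eq_zero l δ fun w => hle (by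
          show (l.left ≫ cE.π.app k).base w ∈ A
          rw [hlπ]
          exact (a.left.base w).2)
        rw [map_sub, map_sGerm, map_map, hlr, hlu, sub_eq_zero] at h0
        rw [map_sGerm]
        exact h0 }
  refine ⟨k.left, Ap, Set.mem_iUnion.2 ⟨⟨⟩, ⟨(cE.π.app k).base (q.left.base v), hzA⟩, ?_⟩⟩
  have e1 : (q.left ≫ cE.π.app k) ≫ pullback.fst (tX.app k.left) U.hom = f.left ≫ (c.π.app k.left).left := by
    rw [Category.assoc]
    refine (congrArg (q.left ≫ ·) (pullback.lift_fst _ _ _)).trans ?_
    exact (Category.assoc _ _ _).symm.trans (congrArg (· ≫ c₀.π.app k.left) (congrArg (fun m => m.left) hqr))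
  rw [← hv]
  exact congrArg (fun m : d.left ⟶ (D.obj k.left).left => m.base v) e1

/-- approximations over all of the limit -/
theorem exists_approx (t : (pulled G K F).obj (op c.pt)) :
    ∃ (j : I) (A : Approx F t j), ∀ d, d ∈ A.image := by
  haveI : ∀ {a b : I} (f : a ⟶ b), IsAffineHom ((sysOf D).map f) := fun f =>
    inferInstanceAs (IsAffineHom (D.map f).left)
  haveI : ∀ a, CompactSpace ((sysOf D).obj a) := fun a => inferInstanceAs (CompactSpace (D.obj a).left)
  haveI : CompactSpace c.pt.left :=
    Scheme.compactSpace_of_isLimit (sysOf D) ((Scheme.ProEt.forget X ⋙ Over.forget X).mapCone c) hc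
  classical
  choose j A hA using exists_approx_at hc t
  obtain ⟨s, hs⟩ := isCompact_univ.elim_finite_subcover
    (fun y => (c.π.app (j y)).left.base ⁻¹' (A y).image)
    (fun y => (A y).isOpen_image.preimage (c.π.app (j y)).left.continuous)
    (fun y _ => Set.mem_iUnion.2 ⟨y, (show y ∈ (fun z => (c.π.app (j y)).left.base z) ⁻¹' (A y).image from hA y)⟩)
  obtain ⟨m, hm⟩ := IsCofiltered.inf_objs_exists (s.image j)
  choose B e p hp hx hB using fun y : s => (A y).refine' (hm (Finset.mem_image_of_mem j y.2)).some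
  let AU : Approx F t m :=
    { ι := Σ y : s, (B y).ι
      fin := by
        haveI : ∀ y, Finite (B y).ι := fun y => (B y).fin
        infer_instance
      T := fun q => (B q.1).T q.2
      τ := fun q => (B q.1).τ q.2
      affine := fun q => (B q.1).affine q.2
      etale := fun q => (B q.1).etale q.2
      x := fun q => (B q.1).x q.2
      compat := fun q => (B q.1).compat q.2 }
  have hAU : ∀ y : c.pt.left, (c.π.app m).left.base y ∈ AU.image := fun y => by
    obtain ⟨y₀, hy₀, hy⟩ := Set.mem_iUnion₂.1 (hs (Set.mem_univ y))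
    have : (c.π.app m).left.base y ∈ (B ⟨y₀, hy₀⟩).image := by
      refine hB ⟨y₀, hy₀⟩ _ (Set.mem_of_eq_of_mem ?_ hy)
      exact congrArg (fun f : c.pt ⟶ D.obj (j y₀) => f.left.base y) (c.w _)
    obtain ⟨k, hk⟩ := Set.mem_iUnion.1 this
    exact Set.mem_iUnion.2 ⟨⟨⟨y₀, hy₀⟩, k⟩, hk⟩
  obtain ⟨m', g, hg⟩ := exists_stage_mem hc (𝟙 (D.obj m)) ⟨AU.image, AU.isOpen_image⟩
    fun y w hw => Set.mem_of_eq_of_mem hw (hAU y)
  obtain ⟨B', _, _, -, -, hB'⟩ := AU.refine' g
  exact ⟨m', B', fun d => hB' d (hg d _ rfl)⟩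

variable [∀ i, QuasiSeparatedSpace ↥(D.obj i).left]

/-- every section over the limit comes from a stage -/
theorem exists_map_eq (t : (pulled G K F).obj (op c.pt)) :
    ∃ (m : I) (s : (pulled G K F).obj (op (D.obj m))), (pulled G K F).map (c.π.app m).op s = t := by
  obtain ⟨j, A, hA⟩ := exists_approx hc t
  haveI := A.fin
  haveI := A.affine
  haveI := A.etale
  -- agreement on overlaps at later stages
  have key : ∀ ab : A.ι × A.ι, ∃ g : Over j, ∀ (T' : X.ProEt) (a : T' ⟶ A.T ab.1) (b : T' ⟶ A.T ab.2)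
      (e : T' ⟶ D.obj g.left), a ≫ A.τ ab.1 = e ≫ D.map g.hom → b ≫ A.τ ab.2 = e ≫ D.map g.hom →
      (pulled G K F).map a.op (A.x ab.1) = (pulled G K F).map b.op (A.x ab.2) := fun ab => by
    obtain ⟨O, p, q, -, hpq, hO⟩ := exists_bc (A.τ ab.1) (A.τ ab.2)
    haveI : QuasiCompact (A.τ ab.1).left := inferInstance
    haveI : QuasiCompact q.left := MorphismProperty.of_isPullback (P := @QuasiCompact) hO ‹_›
    haveI : CompactSpace O.left := QuasiCompact.compactSpace_of_compactSpace q.left
    let δ := (pulled G K F).map p.op (A.x ab.1) - (pulled G K F).map q.op (A.x ab.2)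
    obtain ⟨m, g, hg⟩ := exists_stage_mem hc (p ≫ A.τ ab.1) (van F δ) fun y w hw => by
      obtain ⟨P, r, r', z, hr, hz, -⟩ := exists_point (p ≫ A.τ ab.1) (c.π.app j) w y hw
      refine ⟨P, r, z, hz, ?_⟩
      rw [map_sub, map_map, map_map, A.compat ab.1 P (r ≫ p) r' (by rw [Category.assoc, hr]),
        A.compat ab.2 P (r ≫ q) r' (by rw [Category.assoc, ← hpq, hr])]
      exact sub_self _
    refine ⟨Over.mk g, fun T' a b e hae hbe => ?_⟩
    have hab : a.left ≫ (A.τ ab.1).left = b.left ≫ (A.τ ab.2).left :=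
      congrArg (fun m => m.left) (hae.trans hbe.symm)
    let l : T' ⟶ O := MorphismProperty.Over.homMk (hO.lift a.left b.left hab) (by
      change hO.lift _ _ _ ≫ O.hom = _
      rw [← MorphismProperty.Over.w p, ← Category.assoc, IsPullback.lift_fst]
      exact MorphismProperty.Over.w a)
    have hlp : l ≫ p = a := MorphismProperty.Over.Hom.ext (hO.lift_fst _ _ _)
    have hlq : l ≫ q = b := MorphismProperty.Over.Hom.ext (hO.lift_snd _ _ _)
    have h0 : (pulled G K F).map l.op δ = 0 := map_eq_zero l δ fun w => hg (e.left.base w) _ (by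
      refine congrArg (fun m : T' ⟶ D.obj j => m.left.base w) (?_ : l ≫ p ≫ A.τ ab.1 = e ≫ D.map g)
      rw [← Category.assoc, hlp]
      exact hae)
    rw [map_sub, map_map, map_map, hlp, hlq, sub_eq_zero] at h0
    exact h0
  choose g hg using key
  haveI : Fintype (A.ι × A.ι) := Fintype.ofFinite _
  classical
  obtain ⟨m, hm⟩ := IsCofiltered.inf_objs_exists (Finset.univ.image g)
  obtain ⟨B, e, p, hp, hx, hB⟩ := A.refine' m.hom
  haveI := B.etale
  have hsh : Presieve.IsSheafFor (pulled G K F ⋙ CategoryTheory.forget AddCommGrpCat.{u + 1})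
      (Presieve.ofArrows B.T B.τ) := by
    rw [Presieve.isSheafFor_iff_generate]
    refine (isSheaf_iff_isSheaf_of_type _ _).1 ((sheafCompose K (CategoryTheory.forget AddCommGrpCat.{u + 1})).obj
      ((presheafToSheaf K AddCommGrpCat.{u + 1}).obj (lanP G F))).property _ ?_
    refine mem_topology_of_etale B.T B.τ B.etale (fun d => ?_) fun k => Sieve.le_generate _ _ _ ⟨k⟩
    obtain ⟨k, hk⟩ := Set.mem_iUnion.1 (hB d (hA _))
    exact ⟨k, hk⟩
  obtain ⟨s, hs, -⟩ := (Presieve.isSheafFor_arrows_iff _ _).1 hsh B.x fun k l Z a b hab => by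
    show (pulled G K F).map a.op (B.x k) = (pulled G K F).map b.op (B.x l)
    rw [hx, hx, map_map, map_map]
    obtain ⟨f⟩ := hm (Finset.mem_image_of_mem g (Finset.mem_univ (e k, e l)))
    refine hg (e k, e l) Z _ _ (a ≫ B.τ k ≫ D.map f.left) ?_ ?_
    · rw [Category.assoc, hp, Category.assoc, Category.assoc, ← Functor.map_comp, Over.w f]
    · rw [Category.assoc, hp, Category.assoc, Category.assoc, ← Functor.map_comp, Over.w f,
        reassoc_of% hab]
  refine ⟨m.left, s, sub_eq_zero.1 (eq_zero_of_vanSet (F := F) _ fun y => ?_)⟩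
  obtain ⟨k, w, hw⟩ := Set.mem_iUnion.1 (hB ((c.π.app m.left).left.base y) (hA _))
  obtain ⟨P, r, r', z, hr, hz, hz'⟩ := exists_point (B.τ k) (c.π.app m.left) w y hw
  refine ⟨P, r', z, hz', ?_⟩
  have hsk : (pulled G K F).map (B.τ k).op s = B.x k := hs k
  rw [map_sub, map_map, ← hr, ← map_map, hsk, B.compat k P r r' hr]
  exact sub_self _

/-- sections over the limit are the colimit of the sections over the stages -/
theorem nonempty_isColimit : Nonempty (IsColimit ((pulled G K F).mapCocone c.op)) := by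
  haveI : PreservesFilteredColimitsOfSize.{u, u} (CategoryTheory.forget AddCommGrpCat.{u + 1}) :=
    haveI := AddCommGrpCat.FilteredColimits.forget_preservesFilteredColimits.{u + 1}
    preservesFilteredColimitsOfSize_shrink.{u, u + 1, u, u + 1} _
  haveI : ReflectsColimitsOfShape Iᵒᵖ (CategoryTheory.forget AddCommGrpCat.{u + 1}) :=
    reflectsColimitsOfShape_of_reflectsIsomorphisms
  refine ⟨isColimitOfReflects (CategoryTheory.forget AddCommGrpCat.{u + 1})
    (Types.FilteredColimit.isColimitOf' _ _ (fun t => ?_) fun i s s' h => ?_)⟩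
  · obtain ⟨m, s, hs⟩ := exists_map_eq hc t
    exact ⟨op m, s, hs.symm⟩
  · change (pulled G K F).obj (op (D.obj i.unop)) at s s'
    have h' : (pulled G K F).map (c.π.app i.unop).op s = (pulled G K F).map (c.π.app i.unop).op s' := h
    obtain ⟨m, g, hg⟩ := exists_map_eq_zero hc (i := i.unop) (s - s') (by
      rw [map_sub]
      exact sub_eq_zero.2 h')
    refine ⟨op m, g.op, ?_⟩
    show (pulled G K F).map (D.map g).op s = (pulled G K F).map (D.map g).op s'
    refine sub_eq_zero.1 ?_
    exact ((map_sub _ s s').symm.trans hg)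

end Groth.Agent.EpsLim13
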