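import Mathlib.AlgebraicGeometry.AffineTransitionLimit
import Mathlib.CategoryTheory.Limits.Constructions.Over.Connected
import Mathlib.CategoryTheory.Filtered.Final
import Mathlib.CategoryTheory.Filtered.Connected
import Mathlib.AlgebraicGeometry.Morphisms.Affine
import Mathlib.CategoryTheory.Adjunction.Limits

/-!
# Base changes of limits of schemes with affine transition morphisms
-/

set_option autoImplicit false
set_option backward.isDefEq.respectTransparency false
set_option backward.isDefEq.respectTransparency.types false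

noncomputable section

universe u

open CategoryTheory CategoryTheory.Limits AlgebraicGeometry

namespace Groth.Agent.EpsLim13

variable {I : Type u} [Category.{u} I] {D : I ⥤ Scheme.{u}}

/-- the base change of a diagram over `B` along `h` -/
abbrev bcSys {B O : Scheme.{u}} (t : D ⟶ (Functor.const I).obj B) (h : O ⟶ B) : I ⥤ Scheme.{u} where
  obj i := pullback (t.app i) h
  map {i j} a := pullback.map _ _ _ _ (D.map a) (𝟙 O) (𝟙 B)
    ((Category.comp_id _).trans ((t.naturality a).trans (Category.comp_id _)).symm) (by simp)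
  map_id i := by apply pullback.hom_ext <;> simp
  map_comp f g := by apply pullback.hom_ext <;> simp

theorem bcSys_isAffineHom {B O : Scheme.{u}} (t : D ⟶ (Functor.const I).obj B) (h : O ⟶ B)
    [∀ {i j} (f : i ⟶ j), IsAffineHom (D.map f)] {i j : I} (a : i ⟶ j) : IsAffineHom ((bcSys t h).map a) := by
  have ht : D.map a ≫ t.app j = t.app i := (t.naturality a).trans (Category.comp_id _)
  have hp : CategoryTheory.IsPullback ((bcSys t h).map a) (pullback.fst (t.app i) h) (pullback.fst (t.app j) h)
      (D.map a) := by
    refine IsPullback.of_right ?_ (by simp) (IsPullback.of_hasPullback (t.app j) h).flip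
    simpa [ht] using (IsPullback.of_hasPullback (t.app i) h).flip
  exact MorphismProperty.of_isPullback (P := @IsAffineHom) hp.flip inferInstance

/-- the cone over a base change -/
abbrev bcCone {B O : Scheme.{u}} (t : D ⟶ (Functor.const I).obj B) (h : O ⟶ B) (c : Cone D) (i₀ : I) :
    Cone (Over.forget i₀ ⋙ bcSys t h) where
  pt := pullback (c.π.app i₀ ≫ t.app i₀) h
  π :=
    { app := fun k => pullback.map _ _ _ _ (c.π.app k.left) (𝟙 O) (𝟙 B)
        ((Category.comp_id _).trans ((congrArg (· ≫ t.app i₀) (c.w k.hom).symm).trans ((Category.assoc _ _ _).trans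
          (congrArg (c.π.app k.left ≫ ·) ((t.naturality k.hom).trans (Category.comp_id _))))))
        (by simp)
      naturality := fun k l f => by
        apply pullback.hom_ext <;> simp }

/-- base changes of limits are limits -/
def bcIsLimit [IsCofiltered I] {B O : Scheme.{u}} (t : D ⟶ (Functor.const I).obj B) (h : O ⟶ B) (c : Cone D)
    (hc : IsLimit c) (i₀ : I) : IsLimit (bcCone t h c i₀) := by
  haveI : IsConnected (Over i₀) := isConnected_of_hasTerminal _
  have ht : ∀ k : Over i₀, D.map k.hom ≫ t.app i₀ = t.app k.left :=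
    fun k => (t.naturality k.hom).trans (Category.comp_id _)
  refine isLimitOfIsPullbackOfIsConnected
    ({ app := fun k => pullback.fst (t.app k.left) h } : Over.forget i₀ ⋙ bcSys t h ⟶ Over.forget i₀ ⋙ D)
    _ (c.whisker (Over.forget i₀)) { hom := pullback.fst _ h } (fun k => ?_)
    ((Functor.Initial.isLimitWhiskerEquiv (Over.forget i₀) c).symm hc)
  have e : c.π.app k.left ≫ t.app k.left = c.π.app i₀ ≫ t.app i₀ := by
    rw [← c.w k.hom, Category.assoc, ht]
  refine IsPullback.of_right ?_ (by simp) (IsPullback.of_hasPullback (t.app k.left) h).flip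
  simpa [e] using (IsPullback.of_hasPullback (c.π.app i₀ ≫ t.app i₀) h).flip

variable [IsCofiltered I] [∀ {i j} (f : i ⟶ j), IsAffineHom (D.map f)] [∀ i, CompactSpace (D.obj i)]
  (c : Cone D) (hc : IsLimit c)

include hc in
/-- an open containing all points over the limit contains all points over a later stage -/
theorem exists_forall_mem {j : I} {O : Scheme.{u}} [CompactSpace O] (h : O ⟶ D.obj j) (V : O.Opens)
    (hV : ∀ (y : c.pt) (w : O), h.base w = (c.π.app j).base y → w ∈ V) :
    ∃ (k : I) (g : k ⟶ j), ∀ (d : D.obj k) (w : O), h.base w = (D.map g).base d → w ∈ V := by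
  let D' := Over.forget j ⋙ D
  let t : D' ⟶ (Functor.const (Over j)).obj (D.obj j) :=
    { app := fun k => D.map k.hom
      naturality := fun k l f => by simp [D', ← Functor.map_comp] }
  let c' := c.whisker (Over.forget j)
  let hc' : IsLimit c' := (Functor.Initial.isLimitWhiskerEquiv (Over.forget j) c).symm hc
  let j₀ : Over j := Over.mk (𝟙 j)
  let E := Over.forget j₀ ⋙ bcSys t h
  haveI : ∀ {a b : Over j} (f : a ⟶ b), IsAffineHom (D'.map f) := fun f =>
    inferInstanceAs (IsAffineHom (D.map f.left))
  haveI : ∀ {a b : Over j₀} (f : a ⟶ b), IsAffineHom (E.map f) := fun f => bcSys_isAffineHom t h f.left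
  haveI : ∀ a, CompactSpace (E.obj a) := fun a => by
    haveI : QuasiCompact (pullback.snd (D.map a.left.hom) h) := MorphismProperty.pullback_snd _ _ inferInstance
    exact QuasiCompact.compactSpace_of_compactSpace (pullback.snd (D.map a.left.hom) h)
  obtain ⟨l, g, hg⟩ := exists_map_eq_top E (bcCone t h c' j₀) (bcIsLimit t h c' hc' j₀) (i := Over.mk (𝟙 j₀))
    (pullback.snd (t.app j₀) h ⁻¹ᵁ V) (eq_top_iff.2 fun p _ => by
      refine hV ((pullback.fst (c'.π.app j₀ ≫ t.app j₀) h).base p) _ ?_
      let π : (bcCone t h c' j₀).pt ⟶ pullback (t.app j₀) h :=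
        (bcCone t h c' j₀).π.app (Over.mk (𝟙 j₀))
      have e : (π ≫ pullback.snd (t.app j₀) h) ≫ h = pullback.fst (c'.π.app j₀ ≫ t.app j₀) h ≫ c.π.app j := by
        have e1 : π ≫ pullback.snd (t.app j₀) h = pullback.snd (c'.π.app j₀ ≫ t.app j₀) h := by
          refine (pullback.lift_snd _ _ _).trans ?_
          exact Category.comp_id _
        rw [e1, ← pullback.condition]
        refine congrArg (pullback.fst (c'.π.app j₀ ≫ t.app j₀) h ≫ ·) ?_
        exact (congrArg (c.π.app j ≫ ·) (D.map_id j)).trans (Category.comp_id _)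
      exact congrArg (fun m : (bcCone t h c' j₀).pt ⟶ D.obj j => m.base p) e)
  refine ⟨l.left.left, l.left.hom, fun d w hw => ?_⟩
  obtain ⟨p, hp, hp'⟩ := Scheme.Pullback.exists_preimage_pullback (f := D.map l.left.hom) (g := h) d w hw.symm
  have hm : p ∈ E.map g ⁻¹ᵁ pullback.snd (t.app j₀) h ⁻¹ᵁ V := by rw [hg]; trivial
  have e : (pullback.snd (t.app j₀) h).base ((E.map g).base p) = w := by
    rw [← hp']
    refine congrArg (fun m : E.obj l ⟶ O => m.base p)
      (show E.map g ≫ pullback.snd (t.app j₀) h = pullback.snd (D.map l.left.hom) h from ?_)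
    exact (pullback.lift_snd _ _ _).trans (Category.comp_id _)
  rw [← e]
  exact hm

end Groth.Agent.EpsLim13
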